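import Cfsg.Agent.Lib.Fusion.Group
import Cfsg.Agent.Lib.Fusion.Descent

/-!
# Pairs of subgroups in a fusion system

Stabilizers of a subgroup `U` in `Aut_F(R)`, linked pairs, and best pairs in a class.
-/

set_option autoImplicit false

namespace CfsgLib.Fusion.SatCriterion

open Cfsg Cfsg.FusionSystem CfsgLib.Fusion

variable {Ω : Type*} [Group Ω] {S : Subgroup Ω} {F : Cfsg.FusionSystem S} {p : ℕ}
variable {R R' R'' Q Q' Q'' U : Subgroup Ω}

/-- The automorphisms of `R` stabilizing `U`. -/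
def setStab (R U : Subgroup Ω) : Subgroup (MulAut R) where
  carrier := {α | ∀ x : R, ((α x : R) : Ω) ∈ U ↔ (x : Ω) ∈ U}
  one_mem' _ := Iff.rfl
  mul_mem' {α β} hα hβ x := (hα (β x)).trans (hβ x)
  inv_mem' {α} hα x := by
    have := hα (α⁻¹ x)
    rw [MulAut.apply_inv_self] at this
    exact this.symm

theorem mem_setStab {α : MulAut R} :
    α ∈ setStab R U ↔ ∀ x : R, ((α x : R) : Ω) ∈ U ↔ (x : Ω) ∈ U := Iff.rfl

/-- The stabilizer of `U` in `Aut_F(R)`. -/
def pairStab (F : Cfsg.FusionSystem S) (R U : Subgroup Ω) : Subgroup (MulAut R) :=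
  F.autGroup R ⊓ setStab R U

/-- The automorphisms of `R` stabilizing `U` induced by `S`. -/
def pairAut (S R U : Subgroup Ω) : Subgroup (MulAut R) :=
  autInducedBy S R ⊓ setStab R U

/-- `N_S(R) ∩ N(U)`. -/
def pairNorm (S R U : Subgroup Ω) : Subgroup Ω :=
  normalizerIn S R ⊓ Subgroup.normalizer (U : Set Ω)

theorem pairNorm_le_normalizerIn : pairNorm S R U ≤ normalizerIn S R := inf_le_left

theorem pairNorm_le_left : pairNorm S R U ≤ normalizerIn S U := fun _ hg => ⟨hg.1.1, hg.2⟩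

theorem pairNorm_le : pairNorm S R U ≤ S := inf_le_left.trans (normalizerIn_le S R)

theorem le_pairNorm (hRS : R ≤ S) (hRU : R ≤ Subgroup.normalizer (U : Set Ω)) : R ≤ pairNorm S R U :=
  le_inf (le_normalizerIn hRS) hRU

theorem conjAut_mem_setStab {g : Ω} (hg : g ∈ Subgroup.normalizer (R : Set Ω))
    (hgU : g ∈ Subgroup.normalizer (U : Set Ω)) : conjAut R g hg ∈ setStab R U := fun x =>
  (Subgroup.mem_normalizer_iff.1 hgU x).symm

theorem mem_normalizer_of_setStab (hUR : U ≤ R) {g : Ω} (hg : g ∈ Subgroup.normalizer (R : Set Ω))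
    (h : conjAut R g hg ∈ setStab R U) : g ∈ Subgroup.normalizer (U : Set Ω) := by
  refine Subgroup.mem_normalizer_iff.2 fun x => ⟨fun hx => (h ⟨x, hUR hx⟩).2 hx, fun hx => ?_⟩
  have hxR : x ∈ R := (Subgroup.mem_normalizer_iff.1 hg x).2 (hUR hx)
  exact (h ⟨x, hxR⟩).1 hx

theorem mem_pairAut_iff (hUR : U ≤ R) {α : MulAut R} :
    α ∈ pairAut S R U ↔
      ∃ g, ∃ hg : g ∈ pairNorm S R U, α = conjAut R g hg.1.2 := by
  constructor
  · rintro ⟨hα, hs⟩
    obtain ⟨g, hgR, hgS, rfl⟩ := exists_eq_conjAut hα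
    exact ⟨g, ⟨⟨hgS, hgR⟩, mem_normalizer_of_setStab hUR hgR hs⟩, rfl⟩
  · rintro ⟨g, hg, rfl⟩
    exact ⟨conjAut_mem_autInducedBy hg.1.1 hg.1.2, conjAut_mem_setStab hg.1.2 hg.2⟩

theorem pairAut_le (hRS : R ≤ S) : pairAut S R U ≤ pairStab F R U :=
  inf_le_inf_right _ (autInducedBy_le_autGroup F hRS)

/-- Restriction to `U`. -/
def resHom (hUR : U ≤ R) : setStab R U →* MulAut U where
  toFun α := restrictIso (α : MulAut R) hUR hUR α.2
  map_one' := MulEquiv.ext fun _ => Subtype.ext rfl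
  map_mul' _ _ := MulEquiv.ext fun _ => Subtype.ext rfl

theorem resHom_apply (hUR : U ≤ R) (α : setStab R U) (x : U) :
    ((resHom hUR α x : U) : Ω) = (((α : MulAut R) ⟨x, hUR x.2⟩ : R) : Ω) := rfl

theorem resHom_mem_autGroup (hUR : U ≤ R) (hRS : R ≤ S) (α : setStab R U)
    (hα : (α : MulAut R) ∈ F.autGroup R) : resHom hUR α ∈ F.autGroup U :=
  (mem_autGroup_iff (hUR.trans hRS)).2
    (((mem_autGroup_iff hRS).1 hα).restrict hUR _ fun _ => rfl)

/-! ### Linked pairs -/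

/-- An isomorphism of `F` between `R` and `R'` carrying `Q` to `Q'`. -/
structure Linked (F : Cfsg.FusionSystem S) {R R' : Subgroup Ω} (Q Q' : Subgroup Ω) (e : R ≃* R') :
    Prop where
  iso : IsFIso F e
  le : Q ≤ R
  le' : Q' ≤ R'
  norm : R ≤ Subgroup.normalizer (Q : Set Ω)
  compat : ∀ x : R, (e x : Ω) ∈ Q' ↔ (x : Ω) ∈ Q

namespace Linked

variable {e : R ≃* R'} {f : R' ≃* R''}

/-- The isomorphism between the small subgroups. -/
def res (h : Linked F Q Q' e) : Q ≃* Q' := restrictIso e h.le h.le' h.compat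

theorem res_apply (h : Linked F Q Q' e) (x : Q) : (h.res x : Ω) = e ⟨x, h.le x.2⟩ := rfl

theorem res_iso (h : Linked F Q Q' e) : IsFIso F h.res :=
  h.iso.restrict h.le _ fun _ => rfl

theorem norm' (h : Linked F Q Q' e) : R' ≤ Subgroup.normalizer (Q' : Set Ω) := by
  intro y hy
  have h1 := map_mem_normalizer_of_extends (ψ := R'.subtype.comp e.toMonoidHom) (e := h.res) h.le
    (fun _ => rfl) (g := e.symm ⟨y, hy⟩) (e.symm ⟨y, hy⟩).2 (h.norm (e.symm ⟨y, hy⟩).2)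
  simpa using h1

theorem symm (h : Linked F Q Q' e) : Linked F Q' Q e.symm :=
  ⟨h.iso.symm, h.le', h.le, h.norm', fun y => by simpa using (h.compat (e.symm y)).symm⟩

theorem trans (h : Linked F Q Q' e) (h' : Linked F Q' Q'' f) : Linked F Q Q'' (e.trans f) :=
  ⟨h.iso.trans h'.iso, h.le, h'.le', h.norm, fun x => (h'.compat (e x)).trans (h.compat x)⟩

theorem congr_mem_setStab (h : Linked F Q Q' e) {α : MulAut R} (hα : α ∈ setStab R Q) :
    MulAut.congr e α ∈ setStab R' Q' := by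
  intro y
  rw [congr_apply, h.compat, hα]
  exact (by simpa using (h.compat (e.symm y)).symm :)

theorem congr_mem_pairStab (h : Linked F Q Q' e) {α : MulAut R} (hα : α ∈ pairStab F R Q) :
    MulAut.congr e α ∈ pairStab F R' Q' :=
  ⟨h.iso.congr_mem hα.1, h.congr_mem_setStab hα.2⟩

theorem card_eq (h : Linked F Q Q' e) : Nat.card Q = Nat.card Q' := Nat.card_congr h.res.toEquiv

theorem lt' [Finite S] (h : Linked F Q Q' e) (hlt : Q < R) : Q' < R' := by
  refine lt_of_le_of_ne h.le' fun heq => ?_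
  obtain ⟨x, hx, hxQ⟩ := SetLike.exists_of_lt hlt
  exact hxQ ((h.compat ⟨x, hx⟩).1 (heq.symm ▸ (e ⟨x, hx⟩).2))

end Linked

/-- Automorphisms stabilizing `U` give links of a pair with itself. -/
theorem linked_of_mem_pairStab (hRS : R ≤ S) (hUR : U ≤ R) (hRU : R ≤ Subgroup.normalizer (U : Set Ω))
    {α : MulAut R} (hα : α ∈ pairStab F R U) : Linked F U U (α : R ≃* R) :=
  ⟨(mem_autGroup_iff hRS).1 hα.1, hUR, hUR, hRU, hα.2⟩

/-- A map of `F` on `X` agreeing with an isomorphism of subgroups gives a link. -/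
theorem exists_linked_of_map {X : Subgroup Ω} {ψ : X →* Ω} (hψ : ψ ∈ F.Hom X) (f : Q ≃* Q')
    (hQX : Q ≤ X) (hX : X ≤ Subgroup.normalizer (Q : Set Ω))
    (hag : ∀ x : Q, ψ ⟨x, hQX x.2⟩ = (f x : Ω)) :
    ∃ e : X ≃* ψ.range, Linked F Q Q' e ∧ ∀ x : X, (e x : Ω) = ψ x := by
  obtain ⟨e, he, hex⟩ := exists_iso hψ rfl
  refine ⟨e, ⟨he, hQX, ?_, hX, fun x => ?_⟩, hex⟩
  · intro y hy
    exact ⟨⟨f.symm ⟨y, hy⟩, hQX (f.symm ⟨y, hy⟩).2⟩, by rw [hag]; simp⟩
  · rw [hex]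
    constructor
    · intro hy
      have h1 : ψ ⟨f.symm ⟨ψ x, hy⟩, hQX (f.symm ⟨ψ x, hy⟩).2⟩ = ψ x := by rw [hag]; simp
      rw [← hom_inj hψ h1]
      exact (f.symm ⟨ψ x, hy⟩).2
    · intro hx
      have := hag ⟨x, hx⟩
      exact this ▸ (f ⟨x, hx⟩).2

/-- An isomorphism of `F` gives a link onto the image pair. -/
theorem exists_linked_image {e : R ≃* R'} (he : IsFIso F e) (hUR : U ≤ R)
    (hRU : R ≤ Subgroup.normalizer (U : Set Ω)) :
    ∃ U' : Subgroup Ω, Linked F U U' e := by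
  refine ⟨(U.subgroupOf R).map (R'.subtype.comp e.toMonoidHom), he, hUR, ?_, hRU, fun x => ?_⟩
  · rintro _ ⟨x, -, rfl⟩
    exact (e x).2
  · constructor
    · rintro ⟨z, hz, hzx⟩
      rw [← e.injective (Subtype.ext hzx)]
      exact hz
    · exact fun hx => ⟨x, hx, rfl⟩

/-! ### Best pairs -/

/-- A pair onto which maps extend as much as possible. -/
structure Best (F : Cfsg.FusionSystem S) (p : ℕ) (R U : Subgroup Ω) : Prop where
  leS : R ≤ S
  le : U ≤ R
  norm : R ≤ Subgroup.normalizer (U : Set Ω)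
  sylow : IsSylowIn p (pairAut S R U) (pairStab F R U)
  extend : ∀ (R₁ U₁ : Subgroup Ω) (e : R₁ ≃* R), Linked F U₁ U e →
    ∀ (X : Subgroup Ω) (h₁ : R₁ ≤ X) (h₂ : X ≤ pairNorm S R₁ U₁),
      (∀ g (hg : g ∈ X), MulAut.congr e (conjAut R₁ g (h₂ hg).1.2) ∈ pairAut S R U) →
      ∃ ψ ∈ F.Hom X, (∀ x : X, ψ x ∈ pairNorm S R U) ∧ ∀ x : R₁, ψ ⟨x, h₁ x.2⟩ = (e x : Ω)

/-- Every link into a best pair can be corrected so as to extend to the normalizer of the source pair. -/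
theorem Best.exists_map [Finite S] [Fact p.Prime] (hS : IsPGroup p S) (hB : Best F p R U)
    {R₁ U₁ : Subgroup Ω} {e : R₁ ≃* R} (he : Linked F U₁ U e) :
    ∃ b ∈ pairStab F R U, ∃ ψ ∈ F.Hom (pairNorm S R₁ U₁),
      (∀ x, ψ x ∈ pairNorm S R U) ∧
      ∀ (x : R₁) (hx : (x : Ω) ∈ pairNorm S R₁ U₁), ψ ⟨x, hx⟩ = ((b (e x) : R) : Ω) := by
  have hR₁ : R₁ ≤ S := he.iso.le_left
  have : Finite R := finite_of_le hB.leS
  have : Finite (MulAut R) := finite_mulAut
  set V := (pairAut S R₁ U₁).map (MulAut.congr e).toMonoidHom with hV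
  have hVp : IsPGroup p V :=
    ((isPGroup_autInducedBy hS R₁).to_le inf_le_left).map _
  have hVB : V ≤ pairStab F R U := by
    rintro _ ⟨α, hα, rfl⟩
    exact he.congr_mem_pairStab (pairAut_le (F := F) hR₁ hα)
  obtain ⟨b, hb, hbV⟩ := hB.sylow.exists_conj_le hVp hVB
  have he' : Linked F U₁ U (e.trans (b : R ≃* R)) :=
    he.trans (linked_of_mem_pairStab hB.leS hB.le hB.norm hb)
  obtain ⟨ψ, hψ, hψN, hag⟩ := hB.extend R₁ U₁ _ he' _ (le_pairNorm hR₁ he.norm) le_rfl fun g hg => by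
    have hm : conjAut R₁ g hg.1.2 ∈ pairAut S R₁ U₁ := (mem_pairAut_iff he.le).2 ⟨g, hg, rfl⟩
    have h1 := hbV _ ⟨_, hm, rfl⟩
    exact h1
  exact ⟨b, hb, ψ, hψ, hψN, fun x hx => hag x⟩

/-- Values of an extension of a link lie in the pair normalizer. -/
theorem map_mem_pairNorm {e : R ≃* R'} (he : Linked F Q Q' e) {X : Subgroup Ω} {ψ : X →* Ω}
    (hψ : ψ ∈ F.Hom X) (h₁ : R ≤ X) (h₂ : X ≤ pairNorm S R Q)
    (hag : ∀ x : R, ψ ⟨x, h₁ x.2⟩ = (e x : Ω)) (x : X) : ψ x ∈ pairNorm S R' Q' :=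
  ⟨⟨map_mem hψ x, map_mem_normalizer_of_extends h₁ hag x.2 (h₂ x.2).1.2⟩,
    map_mem_normalizer_of_extends (e := he.res) (he.le.trans h₁) (fun z => hag ⟨z, he.le z.2⟩) x.2
      (h₂ x.2).2⟩

/-- Best pairs exist in every class whose large subgroup is saturated. -/
theorem exists_best [Finite S] [Fact p.Prime]
    (hR : ∃ R', F.IsConj R R' ∧ F.IsFullyAutomized p R' ∧ F.IsReceptive R')
    (hUR : U ≤ R) (hRU : R ≤ Subgroup.normalizer (U : Set Ω)) :
    ∃ (R' U' : Subgroup Ω) (e : R ≃* R'), Linked F U U' e ∧ Best F p R' U' := by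
  obtain ⟨R', hRR', hFA, hrec⟩ := hR
  obtain ⟨e₀, he₀⟩ := exists_iso_of_isConj hRR'
  obtain ⟨U₀, hU₀⟩ := exists_linked_image he₀ hUR hRU
  have hR'S : R' ≤ S := hrec.1
  have : Finite R' := finite_of_le hR'S
  have : Finite (MulAut R') := finite_mulAut
  set B₀ := pairStab F R' U₀ with hB₀
  obtain ⟨Sy⟩ : Nonempty (Sylow p B₀) := inferInstance
  obtain ⟨T, hT⟩ := hFA.2
  obtain ⟨a, ha⟩ := exists_conj_le_sylow T
    (IsPGroup.comap_subtype (K := F.autGroup R') (Sy.2.map B₀.subtype))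
  have haiso : IsFIso F ((a : MulAut R') : R' ≃* R') := (mem_autGroup_iff hR'S).1 a.2
  obtain ⟨U', hU'⟩ := exists_linked_image haiso hU₀.le' hU₀.norm'
  refine ⟨R', U', _, hU₀.trans hU', hR'S, hU'.le', hU'.norm', ?_, ?_⟩
  · have hSy : IsSylowIn p ((Sy : Subgroup B₀).map B₀.subtype) B₀ :=
      ⟨Sy, by rw [Subgroup.subgroupOf, Subgroup.comap_map_eq_self_of_injective B₀.subtype_injective]⟩
    have hsub : ∀ σ ∈ (Sy : Subgroup B₀).map B₀.subtype,
        MulAut.congr ((a : MulAut R') : R' ≃* R') σ ∈ pairAut S R' U' := by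
      intro σ hσ
      have hσB : σ ∈ B₀ := Subgroup.map_subtype_le _ hσ
      have h1 := ha ⟨σ, hσB.1⟩ hσ
      rw [hT] at h1
      exact ⟨h1, hU'.congr_mem_setStab hσB.2⟩
    refine isSylowIn_of_card_le ?_ (pairAut_le hR'S) fun V hV hVB => ?_
    · exact (T.2.map (F.autGroup R').subtype).to_le fun σ hσ =>
        ⟨⟨σ, autInducedBy_le_autGroup F hR'S hσ.1⟩, by rw [hT]; exact hσ.1, rfl⟩
    · set c := (MulAut.congr (((a : MulAut R') : R' ≃* R').symm)).toMonoidHom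
      have hle : V.map c ≤ B₀ := by
        rintro _ ⟨v, hv, rfl⟩
        exact hU'.symm.congr_mem_pairStab (hVB hv)
      calc Nat.card V = Nat.card (V.map c) := (Subgroup.card_map_of_injective
            (MulAut.congr (((a : MulAut R') : R' ≃* R').symm)).injective).symm
        _ ≤ Nat.card ((Sy : Subgroup B₀).map B₀.subtype) :=
            hSy.card_le (Subgroup.map_subtype_le _) (hV.map c) hle
        _ ≤ Nat.card (pairAut S R' U') :=
            Nat.card_le_card_of_injective (fun σ => ⟨_, hsub σ σ.2⟩) fun σ τ h =>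
              Subtype.ext ((MulAut.congr _).injective (Subtype.ext_iff.1 h))
  · intro R₁ U₁ e he X h₁ h₂ hact
    obtain ⟨ψ, hψ, -, hag⟩ := he.iso.exists_extension hrec h₁ (h₂.trans pairNorm_le_normalizerIn)
      fun g hg => (hact g hg).1
    exact ⟨ψ, hψ, map_mem_pairNorm he hψ h₁ h₂ hag, hag⟩

end CfsgLib.Fusion.SatCriterion
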