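import Cfsg.Agent.Lib.Fusion.SatCriterion.Automizer

/-!
# The saturation criterion
-/

set_option autoImplicit false

namespace CfsgLib.Fusion.SatCriterion

open Cfsg Cfsg.FusionSystem CfsgLib.Fusion

variable {Ω : Type*} [Group Ω] {S : Subgroup Ω} {F : Cfsg.FusionSystem S} {p : ℕ}
variable {P Q : Subgroup Ω}

theorem lt_coreNorm_of_not_centric [Finite S] [Fact p.Prime] (hS : IsPGroup p S) (hPS : P ≤ S)
    (hext : ∀ Q, F.IsConj Q P → ∃ g : Q ≃* P, ExtN F g) (hc : ¬ F.IsCentric P) :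
    P < coreNorm F p P := by
  obtain ⟨Q, hQ, hCQ⟩ : ∃ Q, F.IsConj P Q ∧ ¬ centralizerIn S Q ≤ Q := by
    by_contra h
    push Not at h
    exact hc ⟨hPS, h⟩
  obtain ⟨x, hx, hxQ⟩ := SetLike.not_le_iff_exists.1 hCQ
  obtain ⟨g, hQS, ψ, hψ, hag⟩ := hext Q (isConj_symm hQ)
  have hxN : x ∈ normalizerIn S Q := centralizerIn_le_normalizerIn S Q hx
  refine lt_of_le_of_ne (le_coreNorm hS hPS) fun heq => hxQ ?_
  have h1 : ψ ⟨x, hxN⟩ ∈ P := by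
    rw [heq]
    exact centralizerIn_le_coreNorm ⟨map_mem hψ _,
      (map_mem_centralizer_iff_of_extends (le_normalizerIn hQS) hag hxN hxN.2).2 hx.2⟩
  have h2 : ψ ⟨g.symm ⟨_, h1⟩, le_normalizerIn hQS (g.symm ⟨_, h1⟩).2⟩ = ψ ⟨x, hxN⟩ := by
    rw [hag]
    simp
  have h3 : ((g.symm ⟨_, h1⟩ : Q) : Ω) = x := congrArg Subtype.val (hom_inj hψ h2)
  exact h3 ▸ (g.symm ⟨_, h1⟩).2

theorem lt_coreNorm_of_star [Finite S] [Fact p.Prime] (hS : IsPGroup p S) (hPS : P ≤ S)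
    (hext : ∀ Q, F.IsConj Q P → ∃ g : Q ≃* P, ExtN F g) (hQ : F.IsConj Q P)
    (hstar : ¬ (autInducedBy S Q ⊓ coreAut F p Q ≤ Cfsg.Inn Q)) : P < coreNorm F p P := by
  obtain ⟨α, ⟨hα, hαc⟩, hαI⟩ := SetLike.not_le_iff_exists.1 hstar
  obtain ⟨g, hg⟩ := hext Q hQ
  obtain ⟨hQS, ψ, hψ, hag⟩ := id hg
  obtain ⟨s, hsN, hsS, rfl⟩ := exists_eq_conjAut hα
  have hsM : s ∈ normalizerIn S Q := ⟨hsS, hsN⟩
  have hsQ : (⟨s, hsM⟩ : normalizerIn S Q) ∉ Q.subgroupOf (normalizerIn S Q) := fun h =>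
    hαI ((inn_eq_autInducedBy Q).ge (conjAut_mem_autInducedBy (P := Q) h hsN))
  refine lt_of_le_of_ne (le_coreNorm hS hPS) fun heq => hsQ ?_
  have h1 : ψ ⟨s, hsM⟩ ∈ P := by
    rw [heq]
    refine mem_coreNorm.2 ⟨map_mem hψ _,
      map_mem_normalizer_of_extends (le_normalizerIn hQS) hag _ hsN, ?_⟩
    rw [← congr_conjAut_eq_of_extends (le_normalizerIn hQS) hag _ hsN]
    obtain ⟨a, ha, hae⟩ := hαc
    refine ⟨hg.iso.autEquiv a, ?_, ?_⟩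
    · rw [← CfsgLib.Solvable.map_pCore_mulEquiv (p := p) hg.iso.autEquiv]
      exact ⟨a, ha, rfl⟩
    · show (hg.iso.autEquiv a : MulAut P) = _
      rw [IsFIso.autEquiv_apply]
      exact congrArg _ hae
  have h2 : ψ ⟨g.symm ⟨_, h1⟩, le_normalizerIn hQS (g.symm ⟨_, h1⟩).2⟩ = ψ ⟨s, hsM⟩ := by
    rw [hag]
    simp
  have h3 : ((g.symm ⟨_, h1⟩ : Q) : Ω) = s := congrArg Subtype.val (hom_inj hψ h2)
  rw [Subgroup.mem_subgroupOf]
  show s ∈ Q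
  rw [← h3]
  exact (g.symm ⟨_, h1⟩).2

/-- **The saturation criterion.** -/
theorem isSaturated_of_family [Finite S] [Fact p.Prime] (hS : IsPGroup p S) (ℋ : Set (Subgroup Ω))
    (hconj : ∀ P ∈ ℋ, ∀ Q, F.IsConj P Q → Q ∈ ℋ)
    (hsat : ∀ P ∈ ℋ, ∃ Q, F.IsConj P Q ∧ F.IsFullyAutomized p Q ∧ F.IsReceptive Q)
    (hgen : ∀ E : Cfsg.FusionSystem S, (∀ H ∈ ℋ, F.Hom H ⊆ E.Hom H) → F ≤ E)
    (hstar : ∀ P : Subgroup Ω, F.IsCentric P → P ∉ ℋ →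
      ∃ Q, F.IsConj P Q ∧ ¬ (autInducedBy S Q ⊓ coreAut F p Q ≤ Cfsg.Inn Q)) :
    F.IsSaturated p := by
  have hS' : S ∈ ℋ := by
    by_contra hSn
    obtain ⟨Q, hQ, h⟩ := hstar S ⟨le_rfl, fun Q hQ => by
      rw [isConj_top_eq hQ]; exact centralizerIn_le S S⟩ hSn
    apply h
    rw [isConj_top_eq hQ, inn_eq_autInducedBy]
    exact inf_le_left
  suffices h : ∀ (k : ℕ) (P : Subgroup Ω), P ≤ S → Nat.card S ≤ Nat.card P + k →
      ∃ Q, F.IsConj P Q ∧ F.IsFullyAutomized p Q ∧ F.IsReceptive Q from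
    fun P hP => h (Nat.card S) P hP (Nat.le_add_left _ _)
  intro k
  induction k using Nat.strong_induction_on with
  | _ k ih =>
  intro P₀ hP₀ hk
  by_cases hP₀ℋ : P₀ ∈ ℋ
  · exact hsat P₀ hP₀ℋ
  obtain ⟨P, hP₀P, hP⟩ := exists_isFullyNormalized F hP₀
  have hout : ∀ Q, F.IsConj P Q → Q ∉ ℋ := fun Q hQ hQℋ =>
    hP₀ℋ (hconj Q hQℋ P₀ (isConj_symm (isConj_trans hP₀P hQ)))
  have hlt : P < S := lt_of_le_of_ne hP.1 fun h => hout P (isConj_refl F hP.1) (h ▸ hS')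
  have hcard := isConj_card_eq hP₀P
  have hbig : Big F p (Nat.card P) := fun R hR hc => by
    have hcR := Descent.card_le_of_le hR
    exact ih (Nat.card S - Nat.card R) (by omega) R hR (by omega)
  have hext : ∀ Q, F.IsConj Q P → ∃ g : Q ≃* P, ExtN F g := fun Q hQ =>
    exists_extN hS ℋ hgen hP hlt hout hbig hQ
  have hK : P < coreNorm F p P := by
    by_cases hc : F.IsCentric P
    · obtain ⟨Q, hQ, hQs⟩ := hstar P hc (hout P (isConj_refl F hP.1))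
      exact lt_coreNorm_of_star hS hP.1 hext (isConj_symm hQ) hQs
    · exact lt_coreNorm_of_not_centric hS hP.1 hext hc
  obtain ⟨hFA, hrec⟩ := saturated_class hS ℋ hgen hP hlt hout hbig hK
  exact ⟨P, hP₀P, hFA, hrec⟩

end CfsgLib.Fusion.SatCriterion
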