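import Cfsg.Agent.Lib.Fusion.SatCriterion.Class
import Cfsg.Agent.Lib.Fusion.LocalSaturation
import Cfsg.Agent.Lib.Solvable.Core

/-!
# The automizer of a class below saturated classes
-/

set_option autoImplicit false

namespace CfsgLib.Fusion.SatCriterion

open Cfsg Cfsg.FusionSystem CfsgLib.Fusion

variable {Ω : Type*} [Group Ω] {S : Subgroup Ω} {F : Cfsg.FusionSystem S} {p : ℕ}
variable {R R' P Q U : Subgroup Ω}

/-- Transport of a best pair along a map of a normalizer. -/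
theorem best_transport [Finite S] [Fact p.Prime] (hS : IsPGroup p S) (hB : Best F p R U)
    {g : U ≃* P} (hg : ExtN F g) :
    ∃ (R₂ : Subgroup Ω) (e : R ≃* R₂), Linked F U P e ∧ Best F p R₂ P := by
  obtain ⟨hUS, ψ, hψ, hag⟩ := hg
  have hRN : R ≤ normalizerIn S U := le_inf hB.leS hB.norm
  obtain ⟨R₂, e, l, hex⟩ : ∃ (R₂ : Subgroup Ω) (e : R ≃* R₂), Linked F U P e ∧
      ∀ x : R, (e x : Ω) = ψ ⟨x, hRN x.2⟩ :=
    ⟨_, exists_linked_of_map (restrict_mem hψ hRN) g hB.le hB.norm fun x => hag x⟩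
  have hR₂S : R₂ ≤ S := l.iso.le_right
  set X := pairNorm S R U
  have hXN : X ≤ normalizerIn S U := pairNorm_le_left
  set ψX := ψ.comp (Subgroup.inclusion hXN)
  have hψX : ψX ∈ F.Hom X := restrict_mem hψ hXN
  have hRX : R ≤ X := le_pairNorm hB.leS hB.norm
  have hagX : ∀ x : R, ψX ⟨x, hRX x.2⟩ = (e x : Ω) := fun x => (hex x).symm
  have hval := map_mem_pairNorm l hψX hRX le_rfl hagX
  obtain ⟨b, -, θ, hθ, hθv, -⟩ := hB.exists_map hS l.symm
  have : Finite (pairNorm S R₂ P) := finite_of_le pairNorm_le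
  have : Finite X := finite_of_le pairNorm_le
  have hrange : ψX.range = pairNorm S R₂ P := by
    refine Subgroup.eq_of_le_of_card_ge (by rintro _ ⟨x, rfl⟩; exact hval x) ?_
    rw [← Nat.card_congr (MonoidHom.ofInjective (hom_inj hψX)).toEquiv]
    exact Nat.card_le_card_of_injective (fun x => (⟨θ x, hθv x⟩ : X))
      fun a c hac => hom_inj hθ (Subtype.ext_iff.1 hac)
  have hback : ∀ t : X, MulAut.congr e (conjAut R t t.2.1.2) = conjAut R₂ (ψX t) (hval t).1.2 :=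
    fun t => congr_conjAut_eq_of_extends hRX hagX t.2 t.2.1.2
  have : Finite R₂ := finite_of_le hR₂S
  have : Finite (MulAut R₂) := finite_mulAut
  have : Finite R := finite_of_le hB.leS
  have : Finite (MulAut R) := finite_mulAut
  refine ⟨R₂, e, l, hR₂S, l.le', l.norm', ?_, ?_⟩
  · refine isSylowIn_of_card_le ((isPGroup_autInducedBy hS R₂).to_le inf_le_left)
      (pairAut_le hR₂S) fun V hV hVB => ?_
    have hle : V.map (MulAut.congr e.symm).toMonoidHom ≤ pairStab F R U := by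
      rintro _ ⟨v, hv, rfl⟩
      exact l.symm.congr_mem_pairStab (hVB hv)
    have hmem : ∀ σ ∈ pairAut S R U, MulAut.congr e σ ∈ pairAut S R₂ P := by
      intro σ hσ
      obtain ⟨t, ht, rfl⟩ := (mem_pairAut_iff hB.le).1 hσ
      exact (mem_pairAut_iff l.le').2 ⟨_, hval ⟨t, ht⟩, hback ⟨t, ht⟩⟩
    calc Nat.card V = Nat.card (V.map (MulAut.congr e.symm).toMonoidHom) :=
          (Subgroup.card_map_of_injective (MulAut.congr e.symm).injective).symm
      _ ≤ Nat.card (pairAut S R U) :=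
          hB.sylow.card_le (pairAut_le hB.leS) (hV.map _) hle
      _ ≤ Nat.card (pairAut S R₂ P) :=
          Nat.card_le_card_of_injective (fun σ => ⟨_, hmem σ σ.2⟩) fun σ τ h =>
            Subtype.ext ((MulAut.congr _).injective (Subtype.ext_iff.1 h))
  · intro R₁ U₁ e₁ l₁ Y h₁ h₂ hact
    have hact' : ∀ y (hy : y ∈ Y),
        MulAut.congr (e₁.trans e.symm) (conjAut R₁ y (h₂ hy).1.2) ∈ pairAut S R U := by
      intro y hy
      obtain ⟨s, hs, hseq⟩ := (mem_pairAut_iff l.le').1 (hact y hy)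
      obtain ⟨t, ht⟩ : s ∈ ψX.range := hrange.symm ▸ hs
      have h4 : MulAut.congr (e₁.trans e.symm) (conjAut R₁ y (h₂ hy).1.2) =
          MulAut.congr e.symm (MulAut.congr e₁ (conjAut R₁ y (h₂ hy).1.2)) :=
        MulEquiv.ext fun _ => rfl
      have h5 : MulAut.congr e₁ (conjAut R₁ y (h₂ hy).1.2) = MulAut.congr e (conjAut R t t.2.1.2) := by
        rw [hseq, hback t]
        refine MulEquiv.ext fun x => Subtype.ext ?_
        rw [conjAut_apply, conjAut_apply, ht]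
      rw [h4, h5]
      have h6 : MulAut.congr e.symm (MulAut.congr e (conjAut R t t.2.1.2)) = conjAut R t t.2.1.2 :=
        MulEquiv.ext fun x => by simp
      rw [h6]
      exact (mem_pairAut_iff hB.le).2 ⟨t, t.2, rfl⟩
    obtain ⟨η, hη, hηv, hηag⟩ := hB.extend R₁ U₁ _ (l₁.trans l.symm) Y h₁ h₂ hact'
    refine ⟨_, F.comp_mem hη hψX hηv, fun y => hval _, fun x => ?_⟩
    show ψX ⟨η ⟨x, h₁ x.2⟩, _⟩ = _
    refine (congrArg ψX (Subtype.ext (hηag x))).trans ((hagX ((e₁.trans e.symm) x)).trans ?_)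
    simp

/-- Every pair over the class is linked to a best pair over `P`. -/
theorem exists_best_at [Finite S] [Fact p.Prime] (hS : IsPGroup p S)
    (hext : ∀ Q, F.IsConj Q P → ∃ g : Q ≃* P, ExtN F g) (hbig : Big F p (Nat.card P))
    (hQR : Q < R) (hR : R ≤ S) (hRQ : R ≤ Subgroup.normalizer (Q : Set Ω)) (hQ : F.IsConj Q P) :
    ∃ (R₂ : Subgroup Ω) (e : R ≃* R₂), Linked F Q P e ∧ Best F p R₂ P := by
  obtain ⟨R₀, U₀, e₀, l₀, hB⟩ := exists_best (U := Q)
    (hbig R hR (isConj_card_eq hQ ▸ Descent.card_lt_card_of_lt hR hQR)) hQR.le hRQ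
  obtain ⟨g, hg⟩ := hext U₀ (isConj_trans (isConj_symm l₀.res_iso.isConj) hQ)
  obtain ⟨R₂, e, l, hB₂⟩ := best_transport hS hB hg
  exact ⟨R₂, _, l₀.trans l, hB₂⟩

/-- `O_p(Aut_F(P))` inside `Aut(P)`. -/
def coreAut (F : Cfsg.FusionSystem S) (p : ℕ) (P : Subgroup Ω) : Subgroup (MulAut P) :=
  (pCore p (F.autGroup P)).map (F.autGroup P).subtype

theorem coreAut_le : coreAut F p P ≤ F.autGroup P := Subgroup.map_subtype_le _

theorem conj_mem_coreAut {α γ : MulAut P} (hγ : γ ∈ F.autGroup P) (hα : α ∈ coreAut F p P) :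
    γ * α * γ⁻¹ ∈ coreAut F p P := by
  obtain ⟨a, ha, rfl⟩ := hα
  have hn : (pCore p (F.autGroup P)).Normal := CfsgLib.Solvable.pCore_normal p (F.autGroup P)
  refine ⟨⟨γ, hγ⟩ * a * (⟨γ, hγ⟩ : F.autGroup P)⁻¹, hn.conj_mem a ha ⟨γ, hγ⟩, ?_⟩
  rw [map_mul, map_mul, map_inv]
  rfl

theorem inn_le_coreAut [Fact p.Prime] (hS : IsPGroup p S) (hP : P ≤ S) :
    Cfsg.Inn P ≤ coreAut F p P := by
  intro α hα
  refine ⟨⟨α, inn_le_autGroup F hP hα⟩, ?_, rfl⟩
  refine CfsgLib.Solvable.le_pCore (inn_subgroupOf_normal F P) ?_ (Subgroup.mem_subgroupOf.2 hα)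
  exact IsPGroup.comap_subtype ((isPGroup_autInducedBy hS P).to_le (inn_le_autInducedBy hP))

/-- The elements of `N_S(P)` acting on `P` inside `O_p(Aut_F(P))`. -/
def coreNorm (F : Cfsg.FusionSystem S) (p : ℕ) (P : Subgroup Ω) : Subgroup Ω :=
  kNormalizer S P (coreAut F p P)

theorem mem_coreNorm {g : Ω} :
    g ∈ coreNorm F p P ↔
      g ∈ S ∧ ∃ hg : g ∈ Subgroup.normalizer (P : Set Ω), conjAut P g hg ∈ coreAut F p P :=
  mem_kNormalizer

theorem coreNorm_le : coreNorm F p P ≤ normalizerIn S P := kNormalizer_le _ _ _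

theorem le_coreNorm [Fact p.Prime] (hS : IsPGroup p S) (hP : P ≤ S) : P ≤ coreNorm F p P :=
  fun g hg => mem_coreNorm.2 ⟨hP hg, Subgroup.le_normalizer hg, inn_le_coreAut hS hP
    ((inn_eq_autInducedBy P).ge (conjAut_mem_autInducedBy (P := P) hg (Subgroup.le_normalizer hg)))⟩

theorem centralizerIn_le_coreNorm : centralizerIn S P ≤ coreNorm F p P := fun g hg =>
  mem_coreNorm.2 ⟨hg.1, centralizer_le_normalizer P hg.2,
    (conjAut_eq_one_iff (centralizer_le_normalizer P hg.2)).2 hg.2 ▸ one_mem _⟩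

/-- A map agreeing on `P` with an automorphism of the system sends the core normalizer into itself. -/
theorem map_mem_coreNorm {X : Subgroup Ω} {ψ : X →* Ω} (hψ : ψ ∈ F.Hom X) (hPX : P ≤ X)
    {α : MulAut P} (hag : ∀ x : P, ψ ⟨x, hPX x.2⟩ = ((α x : P) : Ω)) {g : Ω} (hgX : g ∈ X)
    (hg : g ∈ coreNorm F p P) : ψ ⟨g, hgX⟩ ∈ coreNorm F p P := by
  obtain ⟨-, hgN, hgc⟩ := mem_coreNorm.1 hg
  have hα : α ∈ F.autGroup P := (mem_autGroup_iff_hom (hPX.trans (dom_le hψ))).2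
    (mem_of_restrict hψ hPX _ fun x => (hag x).symm)
  refine mem_coreNorm.2 ⟨map_mem hψ _,
    map_mem_normalizer_of_extends (e := (α : P ≃* P)) hPX hag hgX hgN, ?_⟩
  rw [← congr_conjAut_eq_of_extends (e := (α : P ≃* P)) hPX hag hgX hgN]
  have heq : MulAut.congr (α : P ≃* P) (conjAut P g hgN) = α * conjAut P g hgN * α⁻¹ :=
    MulEquiv.ext fun _ => rfl
  rw [heq]
  exact conj_mem_coreAut hα hgc

theorem normalizerIn_le_normalizer_coreNorm [Finite S] (hP : P ≤ S) :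
    normalizerIn S P ≤ Subgroup.normalizer (coreNorm F p P : Set Ω) := by
  intro y hy
  have key : ∀ z ∈ normalizerIn S P, ∀ g ∈ coreNorm F p P, z * g * z⁻¹ ∈ coreNorm F p P :=
    fun z hz g hg => map_mem_coreNorm (F.conj_mem (normalizerIn_le S P) hz.1) (le_normalizerIn hP)
      (α := conjAut P z hz.2) (fun _ => rfl) (coreNorm_le hg) hg
  refine Subgroup.mem_normalizer_iff.2 fun g => ⟨key y hy g, fun h => ?_⟩
  simpa [mul_assoc] using key y⁻¹ ((normalizerIn S P).inv_mem hy) _ h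

/-- The automorphisms of `P` which extend to automorphisms of `K` in the system. -/
def extAut (F : Cfsg.FusionSystem S) (K P : Subgroup Ω) (hPK : P ≤ K) : Subgroup (MulAut P) where
  carrier := {α | ∃ β ∈ F.autGroup K, ∀ x : P, ((β ⟨x, hPK x.2⟩ : K) : Ω) = ((α x : P) : Ω)}
  one_mem' := ⟨1, one_mem _, fun _ => rfl⟩
  mul_mem' := by
    rintro α γ ⟨β, hβ, hx⟩ ⟨δ, hδ, hy⟩
    refine ⟨β * δ, mul_mem hβ hδ, fun x => ?_⟩
    have h2 : δ ⟨x, hPK x.2⟩ = ⟨γ x, hPK (γ x).2⟩ := Subtype.ext (hy x)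
    rw [MulAut.mul_apply, MulAut.mul_apply, h2, hx (γ x)]
  inv_mem' := by
    rintro α ⟨β, hβ, hx⟩
    refine ⟨β⁻¹, inv_mem hβ, fun x => ?_⟩
    obtain ⟨y, rfl⟩ := α.surjective x
    rw [MulAut.inv_apply_self, show (⟨_, hPK (α y).2⟩ : K) = β ⟨y, hPK y.2⟩ from
      Subtype.ext (hx y).symm, MulAut.inv_apply_self]

/-- Maps on groups containing the core normalizer give elements of `extAut`. -/
theorem mem_extAut_of_map [Finite S] {X : Subgroup Ω} {ψ : X →* Ω} (hψ : ψ ∈ F.Hom X)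
    (hPK : P ≤ coreNorm F p P) (hKX : coreNorm F p P ≤ X) {α : MulAut P}
    (hag : ∀ x : P, ψ ⟨x, hKX (hPK x.2)⟩ = ((α x : P) : Ω)) :
    α ∈ extAut F (coreNorm F p P) P hPK := by
  have hres := restrict_mem hψ hKX
  have : Finite (coreNorm F p P) := finite_of_le (dom_le hres)
  obtain ⟨β, hβ, hβx⟩ := exists_aut hres (range_eq_of_le (hom_inj hres) fun k =>
    map_mem_coreNorm hψ (hPK.trans hKX) hag (hKX k.2) k.2)
  exact ⟨β, hβ, fun x => (hβx _).trans (hag x)⟩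

/-- Restriction of the stabilizer of a pair to the small subgroup. -/
def pairRes (hPR : P ≤ R) : pairStab F R P →* MulAut P :=
  (resHom hPR).comp (Subgroup.inclusion inf_le_right)

theorem pairRes_apply (hPR : P ≤ R) (b : pairStab F R P) (x : P) :
    ((pairRes hPR b x : P) : Ω) = (((b : MulAut R) ⟨x, hPR x.2⟩ : R) : Ω) := rfl

theorem pairRes_mem (hPR : P ≤ R) (hRS : R ≤ S) (b : pairStab F R P) :
    pairRes hPR b ∈ F.autGroup P :=
  resHom_mem_autGroup hPR hRS _ b.2.1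

/-- All automorphisms coming from links extend to the core normalizer. -/
theorem res_mem_extAut [Finite S] [Fact p.Prime] (hS : IsPGroup p S) (hPS : P ≤ S)
    (hext : ∀ Q, F.IsConj Q P → ∃ g : Q ≃* P, ExtN F g) (hbig : Big F p (Nat.card P)) :
    ∀ (R R' : Subgroup Ω) (e : R ≃* R') (l : Linked F P P e), P < R →
      l.res ∈ extAut F (coreNorm F p P) P (le_coreNorm hS hPS) := by
  set K := coreNorm F p P
  have hPK : P ≤ K := le_coreNorm hS hPS
  set A' := extAut F K P hPK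
  intro R
  induction hk : Nat.card S - Nat.card R using Nat.strong_induction_on generalizing R with
  | _ k ih =>
  intro R' e l hPR
  have hwhole : ∀ {R₁ R₂ : Subgroup Ω} {f : R₁ ≃* R₂} (lf : Linked F P P f),
      normalizerIn S P ≤ R₁ → lf.res ∈ A' := fun lf h =>
    mem_extAut_of_map lf.iso hPK (coreNorm_le.trans h) fun _ => rfl
  rcases eq_or_lt_of_le (linked_le_normalizerIn l) with hR | hR
  · exact hwhole l hR.ge
  rcases eq_or_lt_of_le (linked_le_normalizerIn l.symm) with hR' | hR'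
  · have h1 := A'.inv_mem (hwhole l.symm hR'.ge)
    have h2 : (l.symm.res : MulAut P)⁻¹ = l.res := by
      refine inv_eq_of_mul_eq_one_right (MulEquiv.ext fun x => Subtype.ext ?_)
      show ((l.symm.res (l.res x) : P) : Ω) = x
      rw [Linked.res_apply]
      exact congrArg Subtype.val (e.symm_apply_apply ⟨x, l.le x.2⟩)
    exact h2 ▸ h1
  obtain ⟨R₀, e₁, l₁, hB⟩ := exists_best_at hS hext hbig hPR l.iso.le_left l.norm (isConj_refl F hPS)
  have hbigger : ∀ {Y Y' : Subgroup Ω} {f : Y ≃* Y'} (lf : Linked F P P f), Y ≤ S → P < Y →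
      Nat.card R < Nat.card Y → lf.res ∈ A' := fun lf hY hPY hc =>
    ih _ (by have := Descent.card_le_of_le hY; omega) _ rfl _ _ lf hPY
  have : Finite (normalizerIn S P) := finite_of_le (normalizerIn_le S P)
  have hR₀c : Nat.card R₀ = Nat.card R := (Nat.card_congr e₁.toEquiv).symm
  have hside : ∀ {R₂ : Subgroup Ω} {f : R₂ ≃* R₀} (lf : Linked F P P f), P < R₂ →
      R₂ < normalizerIn S P → ∃ b : pairStab F R₀ P, pairRes hB.le b * lf.res ∈ A' := by
    intro R₂ f lf hPR₂ hR₂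
    obtain ⟨b, hb, ψ, hψ, -, hag⟩ := hB.exists_map hS lf
    refine ⟨⟨b, hb⟩, ?_⟩
    have hR₂X : R₂ ≤ pairNorm S R₂ P := le_pairNorm lf.iso.le_left lf.norm
    have hX : R₂ < pairNorm S R₂ P :=
      lt_of_lt_of_le (lt_normalizerIn (hS.to_le (normalizerIn_le S P)) hR₂) fun g hg =>
        ⟨⟨hg.1.1, hg.2⟩, hg.1.2⟩
    have lf' := lf.trans (linked_of_mem_pairStab hB.leS hB.le hB.norm hb)
    obtain ⟨e', l', he'⟩ := exists_linked_of_map hψ lf'.res (lf.le.trans hR₂X) inf_le_right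
      fun x => hag ⟨x, lf.le x.2⟩ (hR₂X (lf.le x.2))
    have h1 := hbigger l' pairNorm_le (hPR₂.trans hX) (by
      rw [← hR₀c, ← Nat.card_congr f.toEquiv]
      exact Descent.card_lt_card_of_lt pairNorm_le hX)
    have h2 : l'.res = pairRes hB.le ⟨b, hb⟩ * lf.res := MulEquiv.ext fun x => Subtype.ext (by
      rw [Linked.res_apply, he']
      exact hag ⟨x, lf.le x.2⟩ (hR₂X (lf.le x.2)))
    exact h2 ▸ h1
  obtain ⟨b₁, hb₁⟩ := hside l₁ hPR hR
  obtain ⟨b₂, hb₂⟩ := hside (l.symm.trans l₁) (l.lt' hPR) hR'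
  suffices key : ∀ b : pairStab F R₀ P, pairRes hB.le b ∈ A' by
    have h1 : l₁.res ∈ A' := (A'.mul_mem_cancel_left (key b₁)).1 hb₁
    have h2 : (l.symm.trans l₁).res ∈ A' := (A'.mul_mem_cancel_left (key b₂)).1 hb₂
    have h3 : l.res = ((l.symm.trans l₁).res : MulAut P)⁻¹ * l₁.res := by
      rw [eq_inv_mul_iff_mul_eq]
      refine MulEquiv.ext fun x => Subtype.ext ?_
      show (((l.symm.trans l₁).res (l.res x) : P) : Ω) = _
      show ((e₁ (e.symm (e ⟨x, l.le x.2⟩)) : R₀) : Ω) = e₁ ⟨x, l₁.le x.2⟩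
      rw [MulEquiv.symm_apply_apply]
    rw [h3]
    exact A'.mul_mem (A'.inv_mem h2) h1
  intro b
  have hR₀S := hB.leS
  have : Finite R₀ := finite_of_le hR₀S
  have : Finite (MulAut R₀) := finite_mulAut
  by_cases hKR : K ≤ R₀
  · have lb := linked_of_mem_pairStab hR₀S hB.le hB.norm b.2
    exact mem_extAut_of_map lb.iso hPK hKR fun _ => rfl
  have hR₀N : R₀ ≤ normalizerIn S P := le_inf hR₀S hB.norm
  have hsup : R₀ ⊔ K ≤ normalizerIn S P := sup_le hR₀N coreNorm_le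
  have : Finite (R₀ ⊔ K : Subgroup Ω) := finite_of_le (hsup.trans (normalizerIn_le S P))
  obtain ⟨y, hy, hyR⟩ := SetLike.exists_of_lt (lt_normalizerIn
    (hS.to_le (hsup.trans (normalizerIn_le S P)))
    (lt_of_le_of_ne le_sup_left fun h => hKR (le_sup_right.trans h.ge) : R₀ < R₀ ⊔ K))
  obtain ⟨d, hd, hdR, hdN⟩ : ∃ d, d ∈ K ∧ d ∉ R₀ ∧ d ∈ Subgroup.normalizer (R₀ : Set Ω) := by
    have h1 : y ∈ (↑(R₀ ⊔ K) : Set Ω) := hy.1
    rw [Subgroup.coe_mul_of_left_le_normalizer_right R₀ K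
      (hR₀N.trans (normalizerIn_le_normalizer_coreNorm hPS))] at h1
    obtain ⟨r, hr, d, hd, rfl⟩ := h1
    refine ⟨d, hd, fun h => hyR (R₀.mul_mem hr h), ?_⟩
    have h2 := mul_mem (inv_mem (Subgroup.le_normalizer hr)) hy.2
    simpa using h2
  obtain ⟨hdS, hdP, hdc⟩ := mem_coreNorm.1 hd
  set ρ := pairRes (F := F) hB.le
  set L := (coreAut F p P).comap ρ
  have hL : L.Normal := ⟨fun c hc β => by
    show ρ (β * c * β⁻¹) ∈ coreAut F p P
    rw [map_mul, map_mul, map_inv]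
    exact conj_mem_coreAut (pairRes_mem hB.le hR₀S β) hc⟩
  set M := A'.comap ρ with hM
  obtain ⟨Sy, hSy⟩ := hB.sylow
  have hpairN : ∀ t (ht : t ∈ pairNorm S R₀ P) (hb : conjAut R₀ t ht.1.2 ∈ pairStab F R₀ P),
      ρ ⟨_, hb⟩ = conjAut P t ht.2 := fun t ht hb => MulEquiv.ext fun x => Subtype.ext rfl
  have hSyM : (Sy : Subgroup (pairStab F R₀ P)) ≤ M := by
    intro c hc
    rw [hSy] at hc
    obtain ⟨t, ht, hct⟩ := (mem_pairAut_iff hB.le).1 hc
    show ρ c ∈ A'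
    have h1 : c = ⟨conjAut R₀ t ht.1.2, hct ▸ c.2⟩ := Subtype.ext hct
    rw [h1, hpairN t ht]
    exact mem_extAut_of_map (F.conj_mem (normalizerIn_le S P) ht.1.1) hPK coreNorm_le fun _ => rfl
  have hsyl : IsSylowIn p ((Sy : Subgroup (pairStab F R₀ P)) ⊓ L) L := by
    refine isSylowIn_of_card_le (Sy.2.to_le inf_le_left) inf_le_right fun V hV hVL => ?_
    obtain ⟨g, hg⟩ := exists_conj_le_sylow Sy hV
    exact Nat.card_le_card_of_injective
      (fun u : V => (⟨g * u * g⁻¹, hg u u.2, hL.conj_mem _ (hVL u.2) g⟩ :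
        ((Sy : Subgroup (pairStab F R₀ P)) ⊓ L : Subgroup _)))
      fun a c hac => Subtype.ext (mul_left_cancel (mul_right_cancel (Subtype.ext_iff.1 hac)))
  obtain ⟨Ul, hUl⟩ := hsyl
  have hUmap : (Ul : Subgroup L).map L.subtype = (Sy : Subgroup (pairStab F R₀ P)) ⊓ L := by
    rw [hUl, Subgroup.map_subgroupOf_eq_of_le inf_le_right]
  have hLM : L ≤ M := by
    have : Finite P := finite_of_le hPS
    have : Finite (MulAut P) := finite_mulAut
    intro c hc
    set f := (ρ.comp L.subtype).rangeRestrict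
    have hfp : IsPGroup p (ρ.comp L.subtype).range := by
      refine (((CfsgLib.Solvable.pCore_isPGroup (p := p) (F.autGroup P)).map
        (F.autGroup P).subtype).to_le ?_)
      rintro _ ⟨z, rfl⟩
      exact z.2
    have hfs : Function.Surjective f := (ρ.comp L.subtype).rangeRestrict_surjective
    have htop : ((Ul.mapSurjective hfs : Sylow p (ρ.comp L.subtype).range) : Subgroup (ρ.comp L.subtype).range) = ⊤ :=
      ((Ul.mapSurjective hfs).3 (hfp.to_subgroup ⊤) le_top).symm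
    rw [Sylow.coe_mapSurjective] at htop
    have h1 : (⟨ρ c, ⟨⟨c, hc⟩, rfl⟩⟩ : (ρ.comp L.subtype).range) ∈ (Ul : Subgroup L).map f := by
      rw [htop]
      trivial
    obtain ⟨u, hu, huc⟩ := h1
    have h2 : (u : pairStab F R₀ P) ∈ (Sy : Subgroup (pairStab F R₀ P)) ⊓ L :=
      hUmap ▸ Subgroup.mem_map_of_mem _ hu
    show ρ c ∈ A'
    rw [← show ρ u = ρ c from congrArg Subtype.val huc]
    exact hSyM h2.1
  have hfr := Sylow.normalizer_sup_eq_top Ul
  rw [sup_comm, hUmap] at hfr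
  have hmem : b ∈ (↑(L ⊔ Subgroup.normalizer
      (((Sy : Subgroup (pairStab F R₀ P)) ⊓ L : Subgroup _) : Set _)) : Set _) := by
    rw [hfr]; trivial
  rw [Subgroup.normal_mul] at hmem
  obtain ⟨c, hc, β, hβ, rfl⟩ := hmem
  suffices hβM : β ∈ M from M.mul_mem (hLM hc) hβM
  have lβ := linked_of_mem_pairStab hR₀S hB.le hB.norm β.2
  let Y : Subgroup Ω :=
    (((pairAut S R₀ P).comap ((MulAut.congr ((β : MulAut R₀) : R₀ ≃* R₀)).toMonoidHom.comp
      (R₀.normalizerMonoidHom.comp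
        (Subgroup.inclusion (pairNorm_le_normalizerIn.trans inf_le_right :
          pairNorm S R₀ P ≤ Subgroup.normalizer (R₀ : Set Ω))))))).map (pairNorm S R₀ P).subtype
  have hY : ∀ g, g ∈ Y ↔ ∃ hg : g ∈ pairNorm S R₀ P,
      MulAut.congr ((β : MulAut R₀) : R₀ ≃* R₀) (conjAut R₀ g hg.1.2) ∈ pairAut S R₀ P := fun g =>
    ⟨fun ⟨⟨_, hg⟩, hgc, hgg⟩ => hgg ▸ ⟨hg, hgc⟩, fun ⟨hg, hgc⟩ => ⟨⟨g, hg⟩, hgc, rfl⟩⟩
  have hR₀X : R₀ ≤ pairNorm S R₀ P := le_pairNorm hR₀S hB.norm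
  have hR₀Y : R₀ ≤ Y := fun r hr => (hY r).2 ⟨hR₀X hr, (mem_pairAut_iff hB.le).2
    ⟨((β : MulAut R₀) ⟨r, hr⟩ : R₀), hR₀X ((β : MulAut R₀) ⟨r, hr⟩).2,
      congr_conjAut ((β : MulAut R₀) : R₀ ≃* R₀) _ _ fun x => by
        have h1 : conjAut R₀ r (hR₀X hr).1.2 x = ⟨r, hr⟩ * x * ⟨r, hr⟩⁻¹ := Subtype.ext rfl
        rw [h1, map_mul, map_mul, map_inv]
        rfl⟩⟩
  have hdX : d ∈ pairNorm S R₀ P := ⟨⟨hdS, hdN⟩, hdP⟩
  have hdY : d ∈ Y := by
    refine (hY d).2 ⟨hdX, ?_⟩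
    have hdc' : conjAut R₀ d hdX.1.2 ∈ pairAut S R₀ P := (mem_pairAut_iff hB.le).2 ⟨d, hdX, rfl⟩
    have h1 : (⟨_, pairAut_le (F := F) hR₀S hdc'⟩ : pairStab F R₀ P) ∈
        (Sy : Subgroup (pairStab F R₀ P)) ⊓ L :=
      ⟨by rw [hSy]; exact hdc', by
        show ρ ⟨_, _⟩ ∈ coreAut F p P
        rw [hpairN d hdX]
        exact hdc⟩
    have h2 := (conj_mem_of_mem_normalizer hβ h1).1
    rw [hSy] at h2
    exact h2
  obtain ⟨ψ, hψ, -, hag⟩ := hB.extend R₀ P _ lβ Y hR₀Y (fun g hg => ((hY g).1 hg).1)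
    fun g hg => ((hY g).1 hg).2
  obtain ⟨e', l', he'⟩ := exists_linked_of_map hψ lβ.res (hB.le.trans hR₀Y)
    (fun g hg => ((hY g).1 hg).1.2) fun x => hag ⟨x, hB.le x.2⟩
  have hYlt : R₀ < Y := lt_of_le_of_ne hR₀Y fun h => hdR (h ▸ hdY)
  have h1 := hbigger l' (dom_le hψ) (lt_of_le_of_lt hB.le hYlt)
    (hR₀c ▸ Descent.card_lt_card_of_lt (dom_le hψ) hYlt)
  have h2 : l'.res = ρ β := MulEquiv.ext fun x => Subtype.ext (by
    rw [Linked.res_apply, he']
    exact hag ⟨x, hB.le x.2⟩)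
  show ρ β ∈ A'
  exact h2 ▸ h1

/-- A class below saturated classes with a large core normalizer has a fully automized receptive member. -/
theorem saturated_class [Finite S] [Fact p.Prime] (hS : IsPGroup p S) (ℋ : Set (Subgroup Ω))
    (hgen : ∀ E : Cfsg.FusionSystem S, (∀ H ∈ ℋ, F.Hom H ⊆ E.Hom H) → F ≤ E)
    (hP : F.IsFullyNormalized P) (hlt : P < S) (hout : ∀ Q, F.IsConj P Q → Q ∉ ℋ)
    (hbig : Big F p (Nat.card P)) (hK : P < coreNorm F p P) :
    F.IsFullyAutomized p P ∧ F.IsReceptive P := by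
  have hPS : P ≤ S := hP.1
  have hext : ∀ Q, F.IsConj Q P → ∃ g : Q ≃* P, ExtN F g := fun Q hQ =>
    exists_extN hS ℋ hgen hP hlt hout hbig hQ
  have hPK : P ≤ coreNorm F p P := le_coreNorm hS hPS
  have hclaim := res_mem_extAut hS hPS hext hbig
  set K := coreNorm F p P
  set A' := extAut F K P hPK
  have hKN : K ≤ normalizerIn S P := coreNorm_le
  have hKS : K ≤ S := hKN.trans (normalizerIn_le S P)
  -- every automorphism extends to `K`
  have hall : ∀ α ∈ F.autGroup P, α ∈ A' := by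
    have hmain : ∀ {Q Q' : Subgroup Ω} (e : Q ≃* Q'), F.IsConj P Q → IsFIso F e →
        ∀ (f : Q ≃* P) (f' : Q' ≃* P), ExtN F f → ExtN F f' →
          (f.symm.trans (e.trans f') : MulAut P) ∈ A' := by
      refine class_induction hS ℋ hgen hlt hout
        (fun {Q Q'} e => ∀ (f : Q ≃* P) (f' : Q' ≃* P), ExtN F f → ExtN F f' →
          (f.symm.trans (e.trans f') : MulAut P) ∈ A') ?_ ?_ ?_
      · intro Q Q' Q'' e g hQ he hg h₁ h₂ f f'' hf hf''
        obtain ⟨f', hf'⟩ := hext Q' (isConj_symm (isConj_trans hQ he.isConj))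
        have h := A'.mul_mem (h₂ f' f'' hf' hf'') (h₁ f f' hf hf')
        have heq : (f.symm.trans ((e.trans g).trans f'') : MulAut P) =
            (f'.symm.trans (g.trans f'') : MulAut P) * (f.symm.trans (e.trans f') : MulAut P) :=
          MulEquiv.ext fun x => by simp [MulAut.mul_apply]
        exact heq ▸ h
      · intro Q Q' e hQ he h f f' hf hf'
        have h1 := A'.inv_mem (h f' f hf' hf)
        have heq : (f.symm.trans (e.symm.trans f') : MulAut P) =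
            (f'.symm.trans (e.trans f) : MulAut P)⁻¹ := by
          refine (inv_eq_of_mul_eq_one_right (MulEquiv.ext fun x => ?_)).symm
          simp [MulAut.mul_apply]
        exact heq ▸ h1
      · intro R R' Q Q' e l hQR hQ r hr f f' hf hf'
        obtain ⟨hQS, ψ, hψ, hag⟩ := hf
        obtain ⟨hQ'S, ψ', hψ', hag'⟩ := hf'
        have hR : R ≤ normalizerIn S Q := linked_le_normalizerIn l
        have hR' : R' ≤ normalizerIn S Q' := linked_le_normalizerIn l.symm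
        obtain ⟨e₁, l₁, he₁⟩ := exists_linked_of_map (restrict_mem hψ hR) f l.le l.norm
          fun x => hag x
        obtain ⟨e₂, l₂, he₂⟩ := exists_linked_of_map (restrict_mem hψ' hR') f' l.le' l.norm'
          fun x => hag' x
        have h := hclaim _ _ _ (l₁.symm.trans (l.trans l₂)) (l₁.lt' hQR)
        have heq : ((l₁.symm.trans (l.trans l₂)).res : MulAut P) =
            (f.symm.trans (r.trans f') : MulAut P) := by
          refine MulEquiv.ext fun x => Subtype.ext ?_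
          have h1 : e₁.symm ⟨x, l₁.le' x.2⟩ = ⟨(f.symm x : Ω), l.le (f.symm x).2⟩ := by
            apply e₁.injective
            rw [MulEquiv.apply_symm_apply]
            refine Subtype.ext ?_
            rw [he₁]
            exact (congrArg Subtype.val (f.apply_symm_apply x)).symm.trans (hag _).symm
          have h2 : e ⟨(f.symm x : Ω), l.le (f.symm x).2⟩ =
              ⟨(r (f.symm x) : Ω), l.le' (r (f.symm x)).2⟩ :=
            Subtype.ext (hr _ _).symm
          rw [Linked.res_apply, MulEquiv.trans_apply, MulEquiv.trans_apply, h1, h2, he₂]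
          exact hag' _
        exact heq ▸ h
    intro α hα
    have h := hmain (α : P ≃* P) (isConj_refl F hPS) ((mem_autGroup_iff hPS).1 hα)
      (MulEquiv.refl P) (MulEquiv.refl P) (ExtN.refl hPS) (ExtN.refl hPS)
    exact h
  -- the pair `(K, P)` is best
  have hone : Linked F P P (MulEquiv.refl K) :=
    ⟨IsFIso.refl hKS, hPK, hPK, hKN.trans inf_le_right, fun _ => Iff.rfl⟩
  have hB : Best F p K P := by
    obtain ⟨R₂, e, l, hB⟩ := exists_best_at hS hext hbig hK hKS hone.norm (isConj_refl F hPS)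
    obtain ⟨b, hb, ψ, hψ, -, hag⟩ := hB.exists_map hS l
    have hKX : K ≤ pairNorm S K P := le_pairNorm hKS hone.norm
    have hlb := l.trans (linked_of_mem_pairStab hB.leS hB.le hB.norm hb)
    have : Finite K := finite_of_le hKS
    have hsub : R₂ ≤ K := by
      intro y hy
      obtain ⟨x, hx⟩ := (e.trans (b : R₂ ≃* R₂)).surjective ⟨y, hy⟩
      have h1 : ψ ⟨x, hKX x.2⟩ = y := (hag x (hKX x.2)).trans (congrArg Subtype.val hx)
      rw [← h1]
      exact map_mem_coreNorm hψ (hPK.trans hKX) (α := hlb.res)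
        (fun z => hag ⟨z, hPK z.2⟩ (hKX (hPK z.2))) (hKX x.2) x.2
    exact (Subgroup.eq_of_le_of_card_ge hsub (Nat.card_congr e.toEquiv).le) ▸ hB
  have hNX : normalizerIn S P ≤ pairNorm S K P := fun y hy =>
    ⟨⟨hy.1, normalizerIn_le_normalizer_coreNorm hPS hy⟩, hy.2⟩
  set ρ := pairRes (F := F) hB.le
  have : Finite K := finite_of_le hKS
  have : Finite (MulAut K) := finite_mulAut
  have : Finite P := finite_of_le hPS
  have : Finite (MulAut P) := finite_mulAut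
  have hsurj : ∀ α ∈ F.autGroup P, ∃ β : pairStab F K P, ρ β = α := by
    intro α hα
    obtain ⟨β, hβ, hx⟩ := hall α hα
    refine ⟨⟨β, hβ, fun x => ⟨fun h => ?_, fun h => ?_⟩⟩, MulEquiv.ext fun x => Subtype.ext (hx x)⟩
    · have h1 := hx (α⁻¹ ⟨_, h⟩)
      rw [MulAut.apply_inv_self] at h1
      rw [← β.injective (Subtype.ext h1 : β ⟨_, hPK (α⁻¹ ⟨_, h⟩).2⟩ = β x)]
      exact (α⁻¹ ⟨_, h⟩).2
    · rw [show x = ⟨((⟨x, h⟩ : P) : Ω), hPK h⟩ from rfl, hx ⟨x, h⟩]
      exact (α _).2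
  set T := (pairAut S K P).subgroupOf (pairStab F K P)
  have hρT : ∀ c ∈ T, ρ c ∈ autInducedBy S P := by
    intro c hc
    obtain ⟨t, ht, hct⟩ := (mem_pairAut_iff hB.le).1 hc
    refine mem_autInducedBy_iff.2 ⟨t, ht.1.1, fun x => ?_⟩
    show (((c : MulAut K) ⟨x, hPK x.2⟩ : K) : Ω) = _
    rw [show (c : MulAut K) = conjAut K t ht.1.2 from hct]
    rfl
  have hTρ : ∀ g (hg : g ∈ normalizerIn S P), ∃ c ∈ T, ρ c = conjAut P g hg.2 := fun g hg =>
    ⟨⟨_, pairAut_le hKS ((mem_pairAut_iff hB.le).2 ⟨g, hNX hg, rfl⟩)⟩,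
      (mem_pairAut_iff hB.le).2 ⟨g, hNX hg, rfl⟩, MulEquiv.ext fun x => Subtype.ext rfl⟩
  obtain ⟨TB, hTB⟩ := hB.sylow
  let ρA : pairStab F K P →* F.autGroup P := ρ.codRestrict _ (pairRes_mem hB.le hKS)
  have hρA : Function.Surjective ρA := fun α => by
    obtain ⟨β, hβ⟩ := hsurj α α.2
    exact ⟨β, Subtype.ext hβ⟩
  have hFA : F.IsFullyAutomized p P := by
    refine ⟨hPS, TB.mapSurjective hρA, le_antisymm ?_ fun α hα => ?_⟩
    · rw [Sylow.coe_mapSurjective, hTB]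
      rintro _ ⟨c, hc, rfl⟩
      exact hρT c hc
    · obtain ⟨g, hg, hgS, hgα⟩ := exists_eq_conjAut (Subgroup.mem_subgroupOf.1 hα)
      obtain ⟨c, hc, hρc⟩ := hTρ g ⟨hgS, hg⟩
      rw [Sylow.coe_mapSurjective, hTB]
      exact ⟨c, hc, Subtype.ext (hρc.trans hgα.symm)⟩
  refine ⟨hFA, hPS, fun Q φ hφ hr => ?_⟩
  obtain ⟨f, hf, hfφ⟩ := exists_iso hφ hr
  obtain ⟨g, hg⟩ := hext Q hf.isConj
  obtain ⟨hQS, ψ, hψ, hag⟩ := id hg
  set α : MulAut P := g.symm.trans f with hαdef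
  obtain ⟨β, hβ⟩ := hsurj α ((mem_autGroup_iff hPS).2 (hg.iso.symm.trans hf))
  set X := extender S P (P.subtype.comp (α : P ≃* P).toMonoidHom) with hXdef
  have hXN : X ≤ normalizerIn S P := extender_le_normalizerIn _
  have hXact : ∀ x (hx : x ∈ X),
      MulAut.congr (α : P ≃* P) (conjAut P x (hXN hx).2) ∈ autInducedBy S P := fun x hx =>
    (mem_extender_iff_congr (α : P ≃* P) (fun _ => rfl) (hXN hx).1 (hXN hx).2).1 hx
  have hKX : K ≤ X := fun k hk => by
    refine (mem_extender_iff_congr (α : P ≃* P) (fun _ => rfl) (hKN hk).1 (hKN hk).2).2 ?_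
    obtain ⟨β', hβ', hx'⟩ := hall α ((mem_autGroup_iff hPS).2 (hg.iso.symm.trans hf))
    rw [congr_conjAut_eq_of_extends (ψ := K.subtype.comp β'.toMonoidHom) (e := (α : P ≃* P)) hPK
      hx' hk (hKN hk).2]
    exact conjAut_mem_autInducedBy (P := P) (hKS (β' _).2) _
  -- the group of elements over `Aut_S(P)`
  set W := (autInducedBy S P).comap ρ with hW
  have hTW : T ≤ W := hρT
  have hTsyl : IsSylowIn p T W :=
    ⟨TB.subtype (hTB.le.trans hTW), by rw [Sylow.coe_subtype, hTB]⟩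
  let ι : X →* pairStab F K P := (((MulAut.congr ((β : MulAut K) : K ≃* K)).toMonoidHom.comp
      (K.normalizerMonoidHom.comp (Subgroup.inclusion (hXN.trans
        (normalizerIn_le_normalizer_coreNorm hPS))))).codRestrict _ fun x =>
    (linked_of_mem_pairStab hKS hB.le hB.norm β.2).congr_mem_pairStab
      (pairAut_le hKS ((mem_pairAut_iff hB.le).2 ⟨(x : Ω), hNX (hXN x.2), rfl⟩)))
  have hιW : ι.range ≤ W := by
    rintro _ ⟨x, rfl⟩
    show ρ (ι x) ∈ autInducedBy S P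
    have h1 : ρ (ι x) = MulAut.congr (α : P ≃* P) (conjAut P x (hXN x.2).2) := by
      have h2 : ι x = β * ⟨_, pairAut_le hKS ((mem_pairAut_iff hB.le).2 ⟨(x : Ω), hNX (hXN x.2), rfl⟩)⟩
          * β⁻¹ := Subtype.ext (MulEquiv.ext fun _ => rfl)
      rw [h2, map_mul, map_mul, map_inv, hβ]
      exact MulEquiv.ext fun _ => rfl
    rw [h1]
    exact hXact x x.2
  have hιp : IsPGroup p ι.range := by
    have : IsPGroup p (⊤ : Subgroup X) := (hS.to_le (hXN.trans (normalizerIn_le S P))).to_subgroup ⊤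
    have := this.map ι
    rwa [← MonoidHom.range_eq_map] at this
  obtain ⟨m, hm, hmT⟩ := hTsyl.exists_conj_le hιp hιW
  obtain ⟨s, hsN, hsS, hseq⟩ := exists_eq_conjAut (Subgroup.mem_comap.1 hm)
  obtain ⟨t, ht, hρt⟩ := hTρ s ⟨hsS, hsN⟩
  set c := t⁻¹ * m with hc
  have hρc : ρ c = 1 := by rw [hc, map_mul, map_inv, hρt, ← hseq, inv_mul_cancel]
  have lcb := linked_of_mem_pairStab hKS hB.le hB.norm (c * β).2
  obtain ⟨η, hη, hηv, hηag⟩ := hB.extend K P _ lcb X hKX (fun x hx => hNX (hXN hx)) fun x hx => by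
    have h1 := hmT _ ⟨⟨x, hx⟩, rfl⟩
    have h2 : t⁻¹ * (m * ι ⟨x, hx⟩ * m⁻¹) * t ∈ T := T.mul_mem (T.mul_mem (T.inv_mem ht) h1) ht
    have h3 : ((t⁻¹ * (m * ι ⟨x, hx⟩ * m⁻¹) * t : pairStab F K P) : MulAut K) =
        MulAut.congr (((c * β : pairStab F K P) : MulAut K) : K ≃* K)
          (conjAut K x (hNX (hXN hx)).1.2) :=
      MulEquiv.ext fun _ => rfl
    exact h3 ▸ h2
  have hle : extender S Q φ ≤ normalizerIn S Q := extender_le_normalizerIn φ
  set θ := ψ.comp (Subgroup.inclusion hle)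
  have hθX : ∀ x, θ x ∈ X := by
    rintro ⟨x, hx⟩
    have hxn := hle hx
    have h1 := (mem_extender_iff_congr f (fun y => (hfφ y).symm) hxn.1 hxn.2).1 hx
    have hv := ExtN.map_mem (hQ := hQS) hψ hag ⟨x, hxn⟩
    refine (mem_extender_iff_congr (α : P ≃* P) (fun _ => rfl) hv.1 hv.2).2 ?_
    rw [← congr_conjAut_eq_of_extends (le_normalizerIn hQS) hag hxn hxn.2]
    have h2 : MulAut.congr (α : P ≃* P) (MulAut.congr g (conjAut Q x hxn.2)) =
        MulAut.congr f (conjAut Q x hxn.2) := MulEquiv.ext fun y => by simp [hαdef]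
    rw [h2]
    exact h1
  refine ⟨_, F.comp_mem (restrict_mem hψ hle) hη hθX, fun x hxQ hxN => ?_⟩
  show η ⟨θ ⟨x, hxN⟩, _⟩ = _
  have h1 : θ ⟨x, hxN⟩ = (g ⟨x, hxQ⟩ : Ω) := hag ⟨x, hxQ⟩
  have h2 : (⟨θ ⟨x, hxN⟩, hθX _⟩ : X) = ⟨(g ⟨x, hxQ⟩ : Ω), hKX (hPK (g ⟨x, hxQ⟩).2)⟩ :=
    Subtype.ext h1
  rw [h2]
  refine (hηag ⟨_, hPK (g ⟨x, hxQ⟩).2⟩).trans ?_
  show ((ρ (c * β) (g ⟨x, hxQ⟩) : P) : Ω) = _
  rw [map_mul, hρc, one_mul, hβ]
  simp [hαdef, hfφ]

end CfsgLib.Fusion.SatCriterion
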