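import Cfsg.Agent.Lib.Fusion.SatCriterion.Pairs

/-!
# A class below saturated classes: maps onto a member with largest normalizer
-/

set_option autoImplicit false

namespace CfsgLib.Fusion.SatCriterion

open Cfsg Cfsg.FusionSystem CfsgLib.Fusion

variable {Ω : Type*} [Group Ω] {S : Subgroup Ω} {F : Cfsg.FusionSystem S} {p : ℕ}
variable {R R' P Q Q' Q'' A B : Subgroup Ω}

/-- The classes of the subgroups of order larger than `n` contain fully automized receptive members. -/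
def Big (F : Cfsg.FusionSystem S) (p n : ℕ) : Prop :=
  ∀ R : Subgroup Ω, R ≤ S → n < Nat.card R →
    ∃ R', F.IsConj R R' ∧ F.IsFullyAutomized p R' ∧ F.IsReceptive R'

/-- The isomorphism extends to a map on the normalizer. -/
def ExtN (F : Cfsg.FusionSystem S) {Q Q' : Subgroup Ω} (e : Q ≃* Q') : Prop :=
  ∃ hQ : Q ≤ S, ∃ ψ ∈ F.Hom (normalizerIn S Q),
    ∀ x : Q, ψ ⟨x, le_normalizerIn hQ x.2⟩ = (e x : Ω)

theorem ExtN.iso {e : Q ≃* Q'} (h : ExtN F e) : IsFIso F e := by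
  obtain ⟨hQ, ψ, hψ, hag⟩ := h
  exact mem_of_restrict hψ (le_normalizerIn hQ) _ fun x => (hag x).symm

theorem ExtN.map_mem {e : Q ≃* Q'} {hQ : Q ≤ S} {ψ : normalizerIn S Q →* Ω}
    (hψ : ψ ∈ F.Hom (normalizerIn S Q))
    (hag : ∀ x : Q, ψ ⟨x, le_normalizerIn hQ x.2⟩ = (e x : Ω)) (x : normalizerIn S Q) :
    ψ x ∈ normalizerIn S Q' :=
  ⟨CfsgLib.Fusion.map_mem hψ x,
    map_mem_normalizer_of_extends (le_normalizerIn hQ) hag x.2 x.2.2⟩

theorem ExtN.refl (hQ : Q ≤ S) : ExtN F (MulEquiv.refl Q) :=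
  ⟨hQ, _, subtype_mem F (normalizerIn_le S Q), fun _ => rfl⟩

theorem ExtN.trans {e : Q ≃* Q'} {f : Q' ≃* Q''} (he : ExtN F e) (hf : ExtN F f) :
    ExtN F (e.trans f) := by
  obtain ⟨hQ, ψ, hψ, hag⟩ := he
  obtain ⟨hQ', η, hη, hag'⟩ := hf
  refine ⟨hQ, _, F.comp_mem hψ hη (ExtN.map_mem (hQ := hQ) hψ hag), fun x => ?_⟩
  show η ⟨ψ ⟨x, _⟩, _⟩ = _
  exact (congrArg η (Subtype.ext (hag x))).trans (hag' (e x))

theorem ExtN.card_le [Finite S] {e : Q ≃* Q'} (h : ExtN F e) :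
    Nat.card (normalizerIn S Q) ≤ Nat.card (normalizerIn S Q') := by
  obtain ⟨hQ, ψ, hψ, hag⟩ := h
  have : Finite (normalizerIn S Q') := finite_of_le (normalizerIn_le S Q')
  exact Nat.card_le_card_of_injective (fun x => (⟨ψ x, ExtN.map_mem (hQ := hQ) hψ hag x⟩ : normalizerIn S Q'))
    fun a b hab => hom_inj hψ (Subtype.ext_iff.1 hab)

theorem ExtN.symm [Finite S] {e : Q ≃* Q'} (h : ExtN F e)
    (hc : Nat.card (normalizerIn S Q') ≤ Nat.card (normalizerIn S Q)) : ExtN F e.symm := by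
  obtain ⟨hQ, ψ, hψ, hag⟩ := h
  have hQ' : Q' ≤ S := (ExtN.iso ⟨hQ, ψ, hψ, hag⟩).le_right
  have hle : ψ.range ≤ normalizerIn S Q' := by
    rintro _ ⟨x, rfl⟩
    exact ExtN.map_mem (hQ := hQ) hψ hag x
  have : Finite (normalizerIn S Q') := finite_of_le (normalizerIn_le S Q')
  have heq : ψ.range = normalizerIn S Q' := Subgroup.eq_of_le_of_card_ge hle
    (hc.trans (Nat.card_congr (MonoidHom.ofInjective (hom_inj hψ)).toEquiv).le)
  obtain ⟨η, hη, hinv⟩ := F.inv_mem hψ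
  refine ⟨hQ', _, restrict_mem hη heq.ge, fun y => ?_⟩
  show η ⟨(y : Ω), _⟩ = _
  have h1 : (⟨(y : Ω), heq.ge (le_normalizerIn hQ' y.2)⟩ : ψ.range) =
      ⟨ψ ⟨e.symm y, le_normalizerIn hQ (e.symm y).2⟩, ⟨_, rfl⟩⟩ :=
    Subtype.ext ((hag (e.symm y)).trans (by simp)).symm
  rw [h1, hinv]

/-- A link on a whole normalizer. -/
theorem extN_of_linked {e : R ≃* R'} (l : Linked F Q Q' e) (hR : normalizerIn S Q ≤ R) :
    ExtN F l.res :=
  ⟨l.le.trans l.iso.le_left, _, restrict_mem l.iso hR, fun _ => rfl⟩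

theorem linked_le_normalizerIn {e : R ≃* R'} (l : Linked F Q Q' e) : R ≤ normalizerIn S Q :=
  le_inf l.iso.le_left l.norm

/-- Two subgroups have maps on their normalizers to a common one. -/
def Join (F : Cfsg.FusionSystem S) (Q Q' : Subgroup Ω) : Prop :=
  ∃ (M : Subgroup Ω) (f : Q ≃* M) (g : Q' ≃* M), ExtN F f ∧ ExtN F g

theorem Join.symm (h : Join F Q Q') : Join F Q' Q := by
  obtain ⟨M, f, g, hf, hg⟩ := h
  exact ⟨M, g, f, hg, hf⟩

theorem Join.of_ext {e : Q ≃* Q'} (h : ExtN F e) : Join F Q Q' :=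
  ⟨Q', e, MulEquiv.refl Q', h, ExtN.refl h.iso.le_right⟩

/-- All links with large sources give joins. -/
def LinkJoin (F : Cfsg.FusionSystem S) (n m : ℕ) : Prop :=
  ∀ (R R' Q Q' : Subgroup Ω) (e : R ≃* R'), Linked F Q Q' e → Q < R → Nat.card Q = n →
    m ≤ Nat.card R → Join F Q Q'

theorem card_lt_normalizer [Finite S] [Fact p.Prime] (hS : IsPGroup p S) (h : Q < S) :
    Nat.card Q < Nat.card (normalizerIn S Q) :=
  Descent.card_lt_card_of_lt (normalizerIn_le S Q) (lt_normalizerIn hS h)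

theorem Join.trans [Finite S] [Fact p.Prime] (hS : IsPGroup p S) {n m : ℕ} (hJ : LinkJoin F n m)
    (hlt : Q' < S) (hn : Nat.card Q' = n) (hm : m ≤ Nat.card (normalizerIn S Q'))
    (h₁ : Join F Q Q') (h₂ : Join F Q' Q'') : Join F Q Q'' := by
  obtain ⟨A, f, g, hf, hg⟩ := h₁
  obtain ⟨B, f', g', hf', hg'⟩ := h₂
  obtain ⟨hQ', ψ, hψ, hag⟩ := id hg
  obtain ⟨hQ₂, η, hη, hag'⟩ := id hf'
  obtain ⟨e₁, l₁, -⟩ := exists_linked_of_map hψ g (le_normalizerIn hQ') inf_le_right hag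
  obtain ⟨e₂, l₂, -⟩ := exists_linked_of_map hη f' (le_normalizerIn hQ') inf_le_right hag'
  have hlt' : A < ψ.range := l₁.lt' (lt_normalizerIn hS hlt)
  have hJoin : Join F A B := hJ _ _ A B _ (l₁.symm.trans l₂) hlt' (by rw [← l₁.card_eq, hn])
    (hm.trans (Nat.card_congr e₁.toEquiv).le)
  obtain ⟨M, u, v, hu, hv⟩ := hJoin
  exact ⟨M, f.trans u, g'.trans v, hf.trans hu, hg'.trans hv⟩

theorem linkJoin_all [Finite S] [Fact p.Prime] (hS : IsPGroup p S) {n : ℕ} (hn : n < Nat.card S)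
    (hbig : Big F p n) : ∀ m, LinkJoin F n m := by
  have hlt : ∀ {X : Subgroup Ω}, X ≤ S → Nat.card X = n → X < S := fun hX hc =>
    lt_of_le_of_ne hX fun h => by rw [h] at hc; omega
  intro m
  induction hk : Nat.card S - m using Nat.strong_induction_on generalizing m with
  | _ k ih =>
  intro R R' Q Q' e l hQR hQn hmR
  have hRS : R ≤ S := l.iso.le_left
  have hQS : Q ≤ S := l.le.trans hRS
  have hQ'S : Q' ≤ S := l.le'.trans l.iso.le_right
  have hQ'n : Nat.card Q' = n := l.card_eq ▸ hQn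
  have hRN : R ≤ normalizerIn S Q := linked_le_normalizerIn l
  have hR'N : R' ≤ normalizerIn S Q' := linked_le_normalizerIn l.symm
  rcases eq_or_lt_of_le hRN with hR | hR
  · exact Join.of_ext (extN_of_linked l hR.ge)
  rcases eq_or_lt_of_le hR'N with hR' | hR'
  · exact (Join.of_ext (extN_of_linked l.symm hR'.ge)).symm
  obtain ⟨R₀, U₀, e₁, l₁, hB⟩ := exists_best (U := Q)
    (hbig R hRS (hQn ▸ Descent.card_lt_card_of_lt hRS hQR)) l.le l.norm
  have hRcard : Nat.card R' = Nat.card R := (Nat.card_congr e.toEquiv).symm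
  have hside : ∀ {R₂ Q₂ : Subgroup Ω} {f : R₂ ≃* R₀}, Linked F Q₂ U₀ f → Q₂ < R₂ →
      R₂ < normalizerIn S Q₂ → Nat.card R₂ = Nat.card R → Nat.card Q₂ = n →
      Nat.card R < Nat.card (normalizerIn S U₀) ∧ Join F Q₂ U₀ := by
    intro R₂ Q₂ f lf hQR₂ hR₂ hc hQ₂
    obtain ⟨b, hb, ψ, hψ, hψN, hag⟩ := hB.exists_map hS lf
    have lf' := lf.trans (linked_of_mem_pairStab hB.leS hB.le hB.norm hb)
    have hR₂X : R₂ ≤ pairNorm S R₂ Q₂ := le_pairNorm lf.iso.le_left lf.norm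
    have hX : R₂ < pairNorm S R₂ Q₂ := by
      have : Finite (normalizerIn S Q₂) := finite_of_le (normalizerIn_le S Q₂)
      refine lt_of_lt_of_le (lt_normalizerIn (hS.to_le (normalizerIn_le S Q₂)) hR₂) fun g hg =>
        ⟨⟨hg.1.1, hg.2⟩, hg.1.2⟩
    obtain ⟨e', l', he'⟩ := exists_linked_of_map hψ lf'.res (lf.le.trans hR₂X) inf_le_right
      fun x => hag ⟨x, lf.le x.2⟩ (hR₂X (lf.le x.2))
    have hXS : pairNorm S R₂ Q₂ ≤ S := pairNorm_le
    have hcX : Nat.card R < Nat.card (pairNorm S R₂ Q₂) := hc ▸ Descent.card_lt_card_of_lt hXS hX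
    have hcS : Nat.card (pairNorm S R₂ Q₂) ≤ Nat.card S := Descent.card_le_of_le hXS
    refine ⟨hcX.trans_le ?_, ih _ (by omega) (Nat.card R + 1) rfl _ _ Q₂ U₀ e' l'
      (hQR₂.trans hX) hQ₂ hcX⟩
    have : Finite (normalizerIn S U₀) := finite_of_le (normalizerIn_le S U₀)
    exact Nat.card_le_card_of_injective
      (fun x => (⟨ψ x, pairNorm_le_left (hψN x)⟩ : normalizerIn S U₀))
      fun a b hab => hom_inj hψ (Subtype.ext_iff.1 hab)
  obtain ⟨hc, hj₁⟩ := hside l₁ hQR hR rfl hQn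
  obtain ⟨-, hj₂⟩ := hside (l.symm.trans l₁) (l.lt' hQR) hR' hRcard hQ'n
  have hU₀n : Nat.card U₀ = n := l₁.card_eq ▸ hQn
  have hcS : Nat.card R < Nat.card S := hc.trans_le (Descent.card_le_of_le (normalizerIn_le S U₀))
  exact Join.trans hS (ih _ (by omega) (Nat.card R + 1) rfl) (hlt (hB.le.trans hB.leS) hU₀n) hU₀n hc
    hj₁ hj₂.symm

/-- Properties of isomorphisms in a class that is generated from above. -/
theorem class_induction [Finite S] [Fact p.Prime] (hS : IsPGroup p S) (ℋ : Set (Subgroup Ω))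
    (hgen : ∀ E : Cfsg.FusionSystem S, (∀ H ∈ ℋ, F.Hom H ⊆ E.Hom H) → F ≤ E)
    (hP : P < S) (hout : ∀ Q, F.IsConj P Q → Q ∉ ℋ)
    (C : ∀ {Q Q' : Subgroup Ω}, (Q ≃* Q') → Prop)
    (htrans : ∀ {Q Q' Q'' : Subgroup Ω} (e : Q ≃* Q') (f : Q' ≃* Q''), F.IsConj P Q →
      IsFIso F e → IsFIso F f → C e → C f → C (e.trans f))
    (hsymm : ∀ {Q Q' : Subgroup Ω} (e : Q ≃* Q'), F.IsConj P Q → IsFIso F e → C e → C e.symm)
    (helem : ∀ {R R' Q Q' : Subgroup Ω} (e : R ≃* R'), Linked F Q Q' e → Q < R → F.IsConj P Q →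
      ∀ r : Q ≃* Q', (∀ (x : Q) (hx : (x : Ω) ∈ R), (r x : Ω) = e ⟨x, hx⟩) → C r) :
    ∀ {Q Q' : Subgroup Ω} (e : Q ≃* Q'), F.IsConj P Q → IsFIso F e → C e := by
  have hlt : ∀ {Q}, F.IsConj P Q → Q < S := by
    intro Q hQ
    refine lt_of_le_of_ne (isConj_le_right hQ) fun h => ?_
    subst h
    have h1 := isConj_card_eq hQ
    have h2 := Descent.card_lt_card_of_lt le_rfl hP
    omega
  let good : ∀ X : Subgroup Ω, (X →* Ω) → Prop := fun X φ =>
    ∀ (Q Q' : Subgroup Ω) (hQX : Q ≤ X), F.IsConj P Q → ∀ e : Q ≃* Q',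
      (∀ x : Q, φ ⟨x, hQX x.2⟩ = (e x : Ω)) → C e
  have hbigsrc : ∀ {X : Subgroup Ω} {φ : X →* Ω}, φ ∈ F.Hom X →
      (∀ Q, Q ≤ X → F.IsConj P Q → Q < X) → good X φ := by
    intro X φ hφ hX Q Q' hQX hQc e he
    have : Finite X := finite_of_le (dom_le hφ)
    obtain ⟨e', l, hex⟩ := exists_linked_of_map (restrict_mem hφ (normalizerIn_le X Q)) e
      (le_normalizerIn hQX) inf_le_right fun x => he x
    exact helem e' l (lt_normalizerIn (hS.to_le (dom_le hφ)) (hX Q hQX hQc)) hQc e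
      fun x hx => ((hex ⟨x, hx⟩).trans (he x)).symm
  let E : Cfsg.FusionSystem S :=
    { Hom := fun X => {φ | φ ∈ F.Hom X ∧ good X φ}
      le_of_mem := fun h => F.le_of_mem h.1
      injective_of_mem := fun h => F.injective_of_mem h.1
      conj_mem := by
        intro X g hX hg
        refine ⟨F.conj_mem hX hg, fun Q Q' hQX hQc e he => ?_⟩
        exact hbigsrc (F.conj_mem le_rfl hg) (fun Q _ hQ => hlt hQ) Q Q' (hQX.trans hX) hQc e
          fun x => he x
      comp_mem := by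
        intro X Y φ ψ h h' hXY
        refine ⟨F.comp_mem h.1 h'.1 hXY, fun Q Q' hQX hQc e he => ?_⟩
        obtain ⟨f, hf, hfx⟩ := exists_iso (restrict_mem h.1 hQX) rfl
        have hQY : (φ.comp (Subgroup.inclusion hQX)).range ≤ Y := by
          rintro _ ⟨x, rfl⟩
          exact hXY _
        have hC₁ : C f := h.2 Q _ hQX hQc f fun x => (hfx x).symm
        have hag : ∀ y : (φ.comp (Subgroup.inclusion hQX)).range,
            ψ ⟨y, hQY y.2⟩ = (f.symm.trans e y : Ω) := by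
          intro y
          obtain ⟨x, rfl⟩ := f.surjective y
          rw [MulEquiv.trans_apply, MulEquiv.symm_apply_apply, ← he]
          exact congrArg ψ (Subtype.ext (hfx x))
        have hQ'c : F.IsConj P _ := isConj_trans hQc hf.isConj
        have hC₂ : C (f.symm.trans e) := h'.2 _ Q' hQY hQ'c _ hag
        have he2 : IsFIso F (f.symm.trans e) := mem_of_restrict h'.1 hQY _ fun y => (hag y).symm
        have heq : f.trans (f.symm.trans e) = e := MulEquiv.ext fun x => by simp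
        exact heq ▸ htrans f _ hQc hf he2 hC₁ hC₂
      inv_mem := by
        intro X φ h
        obtain ⟨ψ, hψ, hinv⟩ := F.inv_mem h.1
        refine ⟨ψ, ⟨hψ, fun Q Q' hQX hQc e he => ?_⟩, hinv⟩
        have he' : IsFIso F e := mem_of_restrict hψ hQX _ fun x => (he x).symm
        have hQ'X : Q' ≤ X := by
          intro y hy
          obtain ⟨z, hz⟩ := hQX (e.symm ⟨y, hy⟩).2
          have h1 := he (e.symm ⟨y, hy⟩)
          have h2 : (⟨(e.symm ⟨y, hy⟩ : Ω), hQX (e.symm ⟨y, hy⟩).2⟩ : φ.range) = ⟨φ z, z, rfl⟩ :=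
            Subtype.ext hz.symm
          rw [h2, hinv, MulEquiv.apply_symm_apply] at h1
          have h3 : (z : Ω) = y := h1
          exact h3 ▸ z.2
        have hCs : C e.symm := h.2 Q' Q hQ'X (isConj_trans hQc he'.isConj) e.symm fun y => by
          obtain ⟨z, hz⟩ := hQX (e.symm y).2
          have h1 := he (e.symm y)
          have h2 : (⟨(e.symm y : Ω), hQX (e.symm y).2⟩ : φ.range) = ⟨φ z, z, rfl⟩ :=
            Subtype.ext hz.symm
          rw [h2, hinv, MulEquiv.apply_symm_apply] at h1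
          exact (congrArg φ (Subtype.ext h1.symm)).trans hz
        have := hsymm e.symm (isConj_trans hQc he'.isConj) he'.symm hCs
        simpa using this }
  intro Q Q' e hQc he
  have hle := hgen E fun H hH φ hφ => ⟨hφ, hbigsrc hφ fun Q hQH hQ =>
    lt_of_le_of_ne hQH fun heq => hout Q hQ (heq ▸ hH)⟩
  exact (hle Q he).2 Q Q' le_rfl hQc e fun _ => rfl

/-- Every member of the class maps, on its normalizer, onto a member with largest normalizer. -/
theorem exists_extN [Finite S] [Fact p.Prime] (hS : IsPGroup p S) (ℋ : Set (Subgroup Ω))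
    (hgen : ∀ E : Cfsg.FusionSystem S, (∀ H ∈ ℋ, F.Hom H ⊆ E.Hom H) → F ≤ E)
    (hP : F.IsFullyNormalized P) (hlt : P < S) (hout : ∀ Q, F.IsConj P Q → Q ∉ ℋ)
    (hbig : Big F p (Nat.card P)) (hQ : F.IsConj Q P) : ∃ e : Q ≃* P, ExtN F e := by
  have hn : Nat.card P < Nat.card S := Descent.card_lt_card_of_lt le_rfl hlt
  have hJ := linkJoin_all hS hn hbig
  have hmain : ∀ {Q Q' : Subgroup Ω} (e : Q ≃* Q'), F.IsConj P Q → IsFIso F e → Join F Q Q' := by
    refine class_induction hS ℋ hgen hlt hout (fun {Q Q'} _ => Join F Q Q') ?_ ?_ ?_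
    · intro Q Q' Q'' e f hQc he hf h₁ h₂
      have hQ'c := isConj_trans hQc he.isConj
      have hc : Nat.card Q' = Nat.card P := (isConj_card_eq hQ'c).symm
      exact Join.trans hS (hJ 0) (lt_of_le_of_ne he.le_right fun h => by rw [h] at hc; omega) hc
        (Nat.zero_le _) h₁ h₂
    · exact fun _ _ _ h => h.symm
    · intro R R' Q Q' e l hQR hQc r _
      exact hJ 0 R R' Q Q' e l hQR (isConj_card_eq hQc).symm (Nat.zero_le _)
  obtain ⟨e₀, he₀⟩ := exists_iso_of_isConj hQ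
  obtain ⟨M, f, g, hf, hg⟩ := hmain e₀ (isConj_symm hQ) he₀
  exact ⟨f.trans g.symm, hf.trans (hg.symm (hP.2 M hg.iso.isConj))⟩

end CfsgLib.Fusion.SatCriterion
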